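import Cfsg.Agent.Lib.Helper8.RuM.C

/-! # The multiplier of the Rudvalis group, the table over the Tits subgroup: the check of the rows 2030 to 4059 of the certificate (generated) -/

set_option autoImplicit false
set_option maxRecDepth 100000

namespace Cfsg.Agent.Lib.Helper8.RuM

theorem rows_ok_10 : rowsOK 2030 203 = true := by decide +kernel

theorem rows_ok_11 : rowsOK 2233 203 = true := by decide +kernel

theorem rows_ok_12 : rowsOK 2436 203 = true := by decide +kernel

theorem rows_ok_13 : rowsOK 2639 203 = true := by decide +kernel

theorem rows_ok_14 : rowsOK 2842 203 = true := by decide +kernel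

theorem rows_ok_15 : rowsOK 3045 203 = true := by decide +kernel

theorem rows_ok_16 : rowsOK 3248 203 = true := by decide +kernel

theorem rows_ok_17 : rowsOK 3451 203 = true := by decide +kernel

theorem rows_ok_18 : rowsOK 3654 203 = true := by decide +kernel

theorem rows_ok_19 : rowsOK 3857 203 = true := by decide +kernel

end Cfsg.Agent.Lib.Helper8.RuM
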