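import Cfsg.Agent.Lib.Helper8.RuM.C

/-! # The multiplier of the Rudvalis group, the table over the Tits subgroup: the check of the rows 4060 to 6089 of the certificate (generated) -/

set_option autoImplicit false
set_option maxRecDepth 100000

namespace Cfsg.Agent.Lib.Helper8.RuM

theorem rows_ok_20 : rowsOK 4060 203 = true := by decide +kernel

theorem rows_ok_21 : rowsOK 4263 203 = true := by decide +kernel

theorem rows_ok_22 : rowsOK 4466 203 = true := by decide +kernel

theorem rows_ok_23 : rowsOK 4669 203 = true := by decide +kernel

theorem rows_ok_24 : rowsOK 4872 203 = true := by decide +kernel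

theorem rows_ok_25 : rowsOK 5075 203 = true := by decide +kernel

theorem rows_ok_26 : rowsOK 5278 203 = true := by decide +kernel

theorem rows_ok_27 : rowsOK 5481 203 = true := by decide +kernel

theorem rows_ok_28 : rowsOK 5684 203 = true := by decide +kernel

theorem rows_ok_29 : rowsOK 5887 203 = true := by decide +kernel

end Cfsg.Agent.Lib.Helper8.RuM
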