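import Cfsg.Agent.Lib.Helper8.RuM.C

/-! # The multiplier of the Rudvalis group, the table over the Tits subgroup: the check of the rows 6090 to 8119 of the certificate (generated) -/

set_option autoImplicit false
set_option maxRecDepth 100000

namespace Cfsg.Agent.Lib.Helper8.RuM

theorem rows_ok_30 : rowsOK 6090 203 = true := by decide +kernel

theorem rows_ok_31 : rowsOK 6293 203 = true := by decide +kernel

theorem rows_ok_32 : rowsOK 6496 203 = true := by decide +kernel

theorem rows_ok_33 : rowsOK 6699 203 = true := by decide +kernel

theorem rows_ok_34 : rowsOK 6902 203 = true := by decide +kernel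

theorem rows_ok_35 : rowsOK 7105 203 = true := by decide +kernel

theorem rows_ok_36 : rowsOK 7308 203 = true := by decide +kernel

theorem rows_ok_37 : rowsOK 7511 203 = true := by decide +kernel

theorem rows_ok_38 : rowsOK 7714 203 = true := by decide +kernel

theorem rows_ok_39 : rowsOK 7917 203 = true := by decide +kernel

end Cfsg.Agent.Lib.Helper8.RuM
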