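import Cfsg.Agent.Lib.Helper8.RuM.K0
import Cfsg.Agent.Lib.Helper8.RuM.K1
import Cfsg.Agent.Lib.Helper8.RuM.K2
import Cfsg.Agent.Lib.Helper8.RuM.K3
import Cfsg.Agent.Lib.Helper7.MGenH

/-! # The multiplier of the Rudvalis group, the table over the Tits subgroup: all the rows and words of the certificate are checked, the words that give the relations between the classes are traced, and the relations make the kernel cyclic of order at most two (generated) -/

set_option autoImplicit false
set_option maxRecDepth 100000

namespace Cfsg.Agent.Lib.Helper8.RuM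

open Cfsg.Agent.Lib.Helper7.MG Cfsg.Agent.Lib.Helper7.HSMult

theorem rows_ok_all : ∀ k, k < 40 → rowsOK (203 * k) 203 = true
  | 0, _ => rows_ok_0
  | 1, _ => rows_ok_1
  | 2, _ => rows_ok_2
  | 3, _ => rows_ok_3
  | 4, _ => rows_ok_4
  | 5, _ => rows_ok_5
  | 6, _ => rows_ok_6
  | 7, _ => rows_ok_7
  | 8, _ => rows_ok_8
  | 9, _ => rows_ok_9
  | 10, _ => rows_ok_10
  | 11, _ => rows_ok_11
  | 12, _ => rows_ok_12
  | 13, _ => rows_ok_13
  | 14, _ => rows_ok_14
  | 15, _ => rows_ok_15
  | 16, _ => rows_ok_16
  | 17, _ => rows_ok_17
  | 18, _ => rows_ok_18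
  | 19, _ => rows_ok_19
  | 20, _ => rows_ok_20
  | 21, _ => rows_ok_21
  | 22, _ => rows_ok_22
  | 23, _ => rows_ok_23
  | 24, _ => rows_ok_24
  | 25, _ => rows_ok_25
  | 26, _ => rows_ok_26
  | 27, _ => rows_ok_27
  | 28, _ => rows_ok_28
  | 29, _ => rows_ok_29
  | 30, _ => rows_ok_30
  | 31, _ => rows_ok_31
  | 32, _ => rows_ok_32
  | 33, _ => rows_ok_33
  | 34, _ => rows_ok_34
  | 35, _ => rows_ok_35
  | 36, _ => rows_ok_36
  | 37, _ => rows_ok_37
  | 38, _ => rows_ok_38
  | 39, _ => rows_ok_39
  | k + 40, h => absurd h (by omega)

/-- **every entry of the table is justified** -/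
theorem cert_all : ∀ a, a < cert.n → ∀ x, x < cert.g → cert.slotOK a x = true := by
  intro a ha x hx
  have ha' : a < 8120 := ha
  have hx' : x < 6 := hx
  have h1 := rows_ok_all (a / 203) (by omega)
  rw [rowsOK, allN_iff] at h1
  have h2 := h1 (a % 203) (Nat.mod_lt _ (by norm_num))
  rw [allN_iff] at h2
  have h3 := h2 x hx'
  have e : Nat.add (203 * (a / 203)) (a % 203) = a := Nat.div_add_mod a 203
  rw [e] at h3
  exact h3

theorem words_ok : wordsOK = true := by decide +kernel

/-- **every word of the certificate is justified** -/
theorem cert_wall : ∀ i, i < cert.nW → cert.wordOK i = true := by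
  intro i hi
  have h := words_ok
  rw [wordsOK, allN_iff] at h
  exact h i hi

theorem close_0 : cert.scan 4095 (cert.W 11) 4293 0 = some (4293, 17125594850795023712063346211845144455354003454) := by decide +kernel

theorem close_1 : cert.scan 4095 (cert.W 23) 6470 0 = some (6470, 59947247859609212808056394167361604228207388673) := by decide +kernel

theorem close_2 : cert.scan 4095 (cert.W 8) 6768 0 = some (6768, 11423567620981120497602413621554729531110072317) := by decide +kernel

theorem close_3 : cert.scan 4095 (cert.W 23) 3991 0 = some (3991, 59945854060375842314282379591277722369547872245) := by decide +kernel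

theorem close_4 : cert.scan 4095 (cert.W 19) 7071 0 = some (7071, 51383753531271939377422422956331640259636924412) := by decide +kernel

theorem close_5 : cert.scan 4095 (cert.W 12) 1235 0 = some (1235, 11417992430693807657418918454324275841016537090) := by decide +kernel

theorem close_6 : cert.scan 4095 (cert.W 23) 2485 0 = some (2485, 59944460263800931615037251004066112509940115459) := by decide +kernel

theorem close_7 : cert.scan 4095 (cert.W 14) 123 0 = some (123, 11417992430693805122117717996712555741047693313) := by decide +kernel

theorem close_8 : cert.scan 4095 (cert.W 19) 387 0 = some (387, 51383753532601167373209756683180517388456071166) := by decide +kernel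

/-- the words that define the central elements -/
def axI : ℕ → ℕ
  | 0 => 4
  | 1 => 8
  | 2 => 13
  | 3 => 14
  | 4 => 22
  | 5 => 23
  | 6 => 24
  | 7 => 25
  | _ => 0

theorem axI_lt : ∀ j, axI j < 26
  | 0 => by decide
  | 1 => by decide
  | 2 => by decide
  | 3 => by decide
  | 4 => by decide
  | 5 => by decide
  | 6 => by decide
  | 7 => by decide
  | _ + 8 => by
    show (0 : ℕ) < 26
    decide

/-- the word that is trivial by the choice of the lift of the fifth generator -/
def nW : List ℕ := [1, 4, 1, 4, 1, 5]

theorem chk_wT : ∀ i, i < 26 → cert.wT i = 0 →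
    (((cert.W i).all fun x => Nat.blt x 4) = true ∧
      ∀ l, l < 8 → ((fld (cert.rhs i) l : ℤ) - ((cert.W i).length : ℤ) * (cert.B : ℤ)) = 0) ∨
    i = 11 ∨ ∃ j, j < 8 ∧ i = axI j := by decide +kernel

theorem chk_WN : cert.W 11 = nW := by decide +kernel

theorem chk_nW : expsumL 4 5 nW = 1 := by decide

theorem chk_len : ∀ i, i < 26 → (cert.W i).length ≤ 255 := by decide +kernel

theorem chk_ax : ∀ j, j < 8 → ∀ l, l < 8 →
    ((fld (cert.rhs (axI j)) l : ℤ) - ((cert.W (axI j)).length : ℤ) * (cert.B : ℤ)) = if l = j then 1 else 0 := by
  decide +kernel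

theorem chk_ex : ∀ l, l < 8 →
    ((fld (cert.rhs 11) l : ℤ) - ((cert.W 11).length : ℤ) * (cert.B : ℤ)) = 0 := by
  decide +kernel

/-- the relations between the central elements that the traced words give -/
def relL : List (List ℤ) := [[2, 1, 2, (-8), 0, 3, (-1), 1],
    [(-1), (-1), 8, (-1), (-2), (-5), (-4), (-2)],
    [3, 2, (-2), (-6), 4, 1, (-3), (-4)],
    [11, 3, 5, 2, 2, 0, (-2), (-1)],
    [4, (-1), 0, (-1), 0, 0, 0, (-2)],
    [(-2), (-2), 2, 0, 0, (-2), 0, 0],
    [(-3), 6, 1, 2, 0, 2, (-2), 0],
    [(-1), 0, (-2), 2, 0, 0, 0, 0],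
    [2, 0, 2, (-3), (-2), 0, (-1), (-2)]]

/-- the generator of the kernel, as a product of powers of the central elements -/
def cL : List ℤ := [0, 0, 0, 0, 1, 0, 0, 0]

/-- the exponents of the generator that give the central elements -/
def mL : List ℤ := [0, 0, 0, 0, 1, 0, 0, 0]

/-- the combinations of the relations that give the central elements as powers of the generator -/
def lamL : List (List ℤ) := [[(-16552607079165136664892), (-108980160820828595045934), 33698649495355399868346, 82635870680748870494768, (-267024707542127473547982), 228016931192315138040000, (-36453884988686344511670), 189221096034297490581505, 259013330492288265277394],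
    [(-33597664241304550014064), (-221202547412020481654693), 68399854217252541001743, 167730208549099155575972, (-541993561813311172377962), 462817504148623561237264, (-73992295128097088379244), 384071634246308607587144, 525732464395624719234151],
    [8374811614484144678056, 55138644457973715665254, (-17049872557016376489256), (-41809718930696133290320), 135101474431351778231532, (-115365442707333765068968), 18443887294382495321711, (-95736642886190068739671), (-131048108502702601934086)],
    [98508074901576345610, 648564047559418142287, (-200547809338676555083), (-491783590321698042936), 1589120660288041457541, (-1356977111176196048968), 216944800039323065876, (-1126094869041323448918), (-1541443256558469295389)],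
    [0, 0, 0, 0, 0, 0, 0, 0, 0],
    [(-1701610059), (-11203174041), 3464225345, 8494977749, (-27450173033), 23440168791, (-3747463895), 19451952128, 26626602480],
    [(-1860865), (-12251685), 3788444, 9290027, (-30019249), 25633946, (-4098191), 21272469, 29118600],
    [(-443), (-2917), 902, 2212, (-7148), 6103, (-976), 5065, 6933]]

/-- the combination of the relations that gives the square of the generator -/
def muL : List ℤ := [90291538717318293, 594467467457683306, (-183820162049341979), (-450764032597726023), 1456572466452616098, (-1243791958118141938), 198849483474759877, (-1032167551431776849), (-1412871824154093288)]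

theorem chk_rel_0 : ∀ l, l < 8 → ((fld (cert.rhs 11) l : ℤ) - (fld 17125594850795023712063346211845144455354003454 l : ℤ)) = (relL.getD 0 []).getD l 0 := by
  decide +kernel

theorem chk_rel_1 : ∀ l, l < 8 → ((fld (cert.rhs 23) l : ℤ) - (fld 59947247859609212808056394167361604228207388673 l : ℤ)) = (relL.getD 1 []).getD l 0 := by
  decide +kernel

theorem chk_rel_2 : ∀ l, l < 8 → ((fld (cert.rhs 8) l : ℤ) - (fld 11423567620981120497602413621554729531110072317 l : ℤ)) = (relL.getD 2 []).getD l 0 := by
  decide +kernel

theorem chk_rel_3 : ∀ l, l < 8 → ((fld (cert.rhs 23) l : ℤ) - (fld 59945854060375842314282379591277722369547872245 l : ℤ)) = (relL.getD 3 []).getD l 0 := by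
  decide +kernel

theorem chk_rel_4 : ∀ l, l < 8 → ((fld (cert.rhs 19) l : ℤ) - (fld 51383753531271939377422422956331640259636924412 l : ℤ)) = (relL.getD 4 []).getD l 0 := by
  decide +kernel

theorem chk_rel_5 : ∀ l, l < 8 → ((fld (cert.rhs 12) l : ℤ) - (fld 11417992430693807657418918454324275841016537090 l : ℤ)) = (relL.getD 5 []).getD l 0 := by
  decide +kernel

theorem chk_rel_6 : ∀ l, l < 8 → ((fld (cert.rhs 23) l : ℤ) - (fld 59944460263800931615037251004066112509940115459 l : ℤ)) = (relL.getD 6 []).getD l 0 := by
  decide +kernel

theorem chk_rel_7 : ∀ l, l < 8 → ((fld (cert.rhs 14) l : ℤ) - (fld 11417992430693805122117717996712555741047693313 l : ℤ)) = (relL.getD 7 []).getD l 0 := by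
  decide +kernel

theorem chk_rel_8 : ∀ l, l < 8 → ((fld (cert.rhs 19) l : ℤ) - (fld 51383753532601167373209756683180517388456071166 l : ℤ)) = (relL.getD 8 []).getD l 0 := by
  decide +kernel

theorem chk_lam : ∀ j, j < 8 → ∀ l, l < 8 →
    (if l = j then (1 : ℤ) else 0) - mL.getD j 0 * cL.getD l 0 = dotL (lamL.getD j []) relL l := by
  decide +kernel

theorem chk_mu : ∀ l, l < 8 → (2 : ℤ) * cL.getD l 0 = dotL muL relL l := by decide +kernel

end Cfsg.Agent.Lib.Helper8.RuM
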