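import Cfsg.Agent.Lib.Helper7.TitsTU
import Cfsg.Agent.Lib.Helper6.RuSimple
import Cfsg.Agent.Lib.Helper8.RuM.D

/-!
# The multiplier of the Rudvalis group: the presented group on five involutions and its Tits subgroup

The letters of the table in the presented group `P5` (helper6: simple of order 145926144000), the subgroup `L`
generated by the first four of them, which is a copy of the presented Tits group `P4` and so has no proper stem
extensions (helper7), and the words of the certificate, which are trivial in `P5`. (helper8)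
-/

set_option autoImplicit false
set_option maxRecDepth 100000

namespace Cfsg.Agent.Lib.Helper8.RuM

open Cfsg Cfsg.Spor Cfsg.Agent.Lib.Helper7.MG Cfsg.Agent.Lib.Helper7.HSMult Cfsg.Agent.Lib.Helper7.M12Mult
open Cfsg.Agent.Lib.Helper6 Cfsg.Agent.Lib.Helper6.TC Cfsg.Agent.Lib.Helper6.TitsSub
  Cfsg.Agent.Lib.Helper6.RuSub Cfsg.Agent.Lib.Helper6.Simp

universe u

instance finiteP5 : Finite P5 := RuSimple.ub.1

theorem card_P5 : Nat.card P5 = 145926144000 := RuSimple.main.2

/-- the generators of the presented group, numbered -/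
noncomputable def cg (x : ℕ) : P5 := cγ P5.edges P5.extra RuP5TC.gen x

theorem hnode5 : ∀ a : P5.Gen, a ∈ coxNodes P5.edges := RuP5TC.data.hnode

theorem cg_mul_self (x : ℕ) : cg x * cg x = 1 := cγ_mul_self hnode5 x

theorem cg_inv (x : ℕ) : (cg x)⁻¹ = cg x := inv_eq_of_mul_eq_one_left (cg_mul_self x)

/-- the words of the relators are trivial in the presented group -/
theorem word_one : ∀ w ∈ coxWordsL P5.edges RuP5TC.gen 5 ++ RuP5TC.extraWords, (w.map cg).prod = 1 := by
  intro w hw
  rcases List.mem_append.1 hw with hw | hw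
  · unfold coxWordsL at hw
    rw [List.mem_flatMap] at hw
    obtain ⟨i, _, hw⟩ := hw
    rw [List.mem_map] at hw
    obtain ⟨j, _, rfl⟩ := hw
    rw [prod_rep2]
    have hm : (FreeGroup.of (RuP5TC.gen i) * FreeGroup.of (RuP5TC.gen j)) ^
        coxLabel P5.edges (RuP5TC.gen i) (RuP5TC.gen j) ∈ coxRelators P5.edges ∪ {r | r ∈ P5.extra} :=
      Or.inl ⟨RuP5TC.gen i, hnode5 _, RuP5TC.gen j, hnode5 _, rfl⟩
    have h1 := PresentedGroup.one_of_mem hm
    rw [map_pow, map_mul] at h1
    exact h1
  · have h1 : ∀ r ∈ P5.extra, FreeGroup.lift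
        (fun a => (PresentedGroup.of a : P5)) r = 1 := by
      intro r hr
      rw [lift_of_eq_mk]
      exact PresentedGroup.one_of_mem (Or.inr hr)
    exact (RuP5TC.data.hextra (fun a => (PresentedGroup.of a : P5))
      (of_mul_self hnode5)).1 h1 w hw

/-- the letters of the table: the five generators, the fifth one twice -/
noncomputable def lR (x : ℕ) : P5 := if x < 6 then cg x else 1

theorem lR_of_lt {x : ℕ} (hx : x < 6) : lR x = cg x := by rw [lR, if_pos hx]

theorem lR_of_ge {x : ℕ} (hx : 6 ≤ x) : lR x = 1 := by rw [lR, if_neg (by omega)]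

theorem cg_five : cg 5 = cg 4 := rfl

theorem wd_lR_eq : ∀ w : List ℕ, (∀ x ∈ w, x < 6) → VCert.wd lR w = (w.map cg).prod
  | [], _ => rfl
  | x :: w, h => by
    rw [VCert.wd_cons, wd_lR_eq w (fun y hy => h y (List.mem_cons_of_mem _ hy)), List.map_cons, List.prod_cons,
      lR_of_lt (h x List.mem_cons_self)]

theorem lR_iv : ∀ x, x < 6 → lR (cert.iv x) = (lR x)⁻¹
  | 0, _ => by
    show lR 0 = (lR 0)⁻¹
    rw [lR_of_lt (by norm_num), cg_inv]
  | 1, _ => by
    show lR 1 = (lR 1)⁻¹
    rw [lR_of_lt (by norm_num), cg_inv]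
  | 2, _ => by
    show lR 2 = (lR 2)⁻¹
    rw [lR_of_lt (by norm_num), cg_inv]
  | 3, _ => by
    show lR 3 = (lR 3)⁻¹
    rw [lR_of_lt (by norm_num), cg_inv]
  | 4, _ => by
    show lR 5 = (lR 4)⁻¹
    rw [lR_of_lt (by norm_num), lR_of_lt (by norm_num), cg_inv, cg_five]
  | 5, _ => by
    show lR 4 = (lR 5)⁻¹
    rw [lR_of_lt (by norm_num), lR_of_lt (by norm_num), cg_inv, cg_five]
  | x + 6, h => absurd h (by omega)

theorem closure_lR : Subgroup.closure (lR '' Set.Iio 6) = ⊤ := by
  rw [Subgroup.eq_top_iff']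
  intro z
  obtain ⟨w, hw, rfl⟩ := cγ_gen (edges := P5.edges) (extra := P5.extra) (gen := RuP5TC.gen) hnode5 5
    (fun a => ⟨RuP5TC.code a, by cases a <;> decide, by cases a <;> rfl⟩) z
  apply Subgroup.list_prod_mem
  intro y hy
  obtain ⟨x, hx, rfl⟩ := List.mem_map.1 hy
  have hx5 : x < 5 := hw x hx
  refine Subgroup.subset_closure ⟨x, ?_, ?_⟩
  · show x < 6
    omega
  · rw [lR_of_lt (by omega)]
    rfl

/-! ### the words of the certificate -/

set_option maxRecDepth 1000000 in
theorem chk_mem : ∀ i, i < 26 → i ≠ 11 →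
    cert.W i ∈ coxWordsL P5.edges RuP5TC.gen 5 ++ RuP5TC.extraWords := by decide +kernel

theorem chk_letters : ∀ i, i < 26 → ((cert.W i).all fun x => Nat.blt x 6) = true := by decide +kernel

theorem chk_label : coxLabel P5.edges (RuP5TC.gen 1) (RuP5TC.gen 4) = 3 := by decide

/-- **the words of the certificate are trivial in the presented group** -/
theorem wd_lR_W {i : ℕ} (hi : i < 26) : VCert.wd lR (cert.W i) = 1 := by
  have hl : ∀ x ∈ cert.W i, x < 6 := by
    intro x hx
    have := List.all_eq_true.1 (chk_letters i hi) x hx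
    simpa [Nat.blt] using this
  rw [wd_lR_eq _ hl]
  by_cases h11 : i = 11
  · subst h11
    rw [chk_WN]
    have h1 := word_one (rep2 1 4 3) (List.mem_append_left _ (by
      have := mem_coxWordsL P5.edges RuP5TC.gen (g := 5) (i := 1) (j := 4) (by norm_num) (by norm_num)
      rwa [chk_label] at this))
    rw [prod_rep2] at h1
    show ([1, 4, 1, 4, 1, 5].map cg).prod = 1
    simp only [List.map_cons, List.map_nil, List.prod_cons, List.prod_nil, mul_one, cg_five]
    rw [← h1]
    simp only [pow_succ, pow_zero, one_mul, mul_assoc]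
  · exact word_one _ (chk_mem i hi h11)

/-! ### the Tits subgroup -/

/-- the subgroup generated by the first four generators: the image of the presented Tits group -/
noncomputable def L : Subgroup P5 := subP4.hom.range

theorem L_eq : L = (Subgroup.closure RuP5TC.S).map
    (PresentedGroup.mk (coxRelators P5.edges ∪ {r | r ∈ P5.extra})) := by
  rw [L, SubPres.range_hom, rangeP4]

theorem index_L : L.index = 8120 := by
  rw [L_eq]
  exact RuP5TC.main

theorem card_L : Nat.card ↥L = 17971200 := by
  have h := Subgroup.card_mul_index L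
  rw [index_L, card_P5] at h
  omega

theorem lR_mem_L : ∀ x, x < 4 → lR x ∈ L
  | 0, _ => ⟨PresentedGroup.of P4.Gen.x, by rw [SubPres.hom_of, lR_of_lt (by norm_num)]; rfl⟩
  | 1, _ => ⟨PresentedGroup.of P4.Gen.y, by rw [SubPres.hom_of, lR_of_lt (by norm_num)]; rfl⟩
  | 2, _ => ⟨PresentedGroup.of P4.Gen.z, by rw [SubPres.hom_of, lR_of_lt (by norm_num)]; rfl⟩
  | 3, _ => ⟨PresentedGroup.of P4.Gen.t, by rw [SubPres.hom_of, lR_of_lt (by norm_num)]; rfl⟩
  | x + 4, h => absurd h (by omega)

/-- **the subgroup is a copy of the presented Tits group** -/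
noncomputable def eL : P4 ≃* ↥L :=
  MulEquiv.ofBijective subP4.hom.rangeRestrict
    (subP4.hom.rangeRestrict_surjective.bijective_of_nat_card_le (by
      have h : Nat.card ↥subP4.hom.range = 17971200 := card_L
      rw [h, Cfsg.Agent.Lib.Helper7.TitsB.card_P4]))

theorem L_perfect : commutator ↥L = ⊤ := by
  have hs : Function.Surjective eL.toMonoidHom := eL.surjective
  have h1 : (commutator P4).map eL.toMonoidHom = commutator ↥L := by
    rw [commutator_def, Subgroup.map_commutator, ← MonoidHom.range_eq_map, MonoidHom.range_eq_top.2 hs,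
      commutator_def]
  rw [← h1, Cfsg.Agent.Lib.Helper7.TitsB.P4_perfect, ← MonoidHom.range_eq_map, MonoidHom.range_eq_top.2 hs]

/-- **the subgroup has no proper finite stem extensions** -/
theorem MF_L : MF.{u} ↥L :=
  MF.of_equiv eL (fun _ _ _ τ hs hc hd => Cfsg.Agent.Lib.Helper7.TitsT.ker_eq_bot_of_stem τ hs hc hd)

end Cfsg.Agent.Lib.Helper8.RuM
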