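/-! # The multiplier of the Rudvalis group, the table over the Tits subgroup: the words of the certificate (generated) -/

set_option autoImplicit false

namespace Cfsg.Agent.Lib.Helper8.RuM

/-- the packed words -/
noncomputable def relP : Nat := 0x12310121012313412310143010132142000000000000000000000000000002101012131231021012410310134210130142400000000000000000000000000000000000000000001210124131241014213141500000000000000010210101010102101010101023123101013410121013213143100000000000000000000012101021010101010121010102310310131321010132b00000000000000000000001010210102101010210102101031021310213120132b00000000000000000000000000000000000000000000000103103103130130131200000000000000000000000000000001010210101010101021010313132013132200000000000000000000000000000000000000000000000002101231012310130f00000000000000001010101010121010101010121010101010121010101010123000000000000000000000000000000000000000002102102102102102102102101800000000000000000000000000000000000000000000000000000000000043430400000000000000000000000000000000000000000000000000000000000042420400000000000000000000000000000000000000000000000000000000000032320400000000000000000000000000000000000000000000000000000000005141410600000000000000000000000000000000000000000000313131313131313131311400000000000000000000000000000000000000000000000000000000002121210600000000000000000000000000000000000000000000000000000000000040400400000000000000000000000000000000000000000000000000000000000030300400000000000000000000000000000000000000000000000000000000000020200400000000000000000000000000000000000000101010101010101010101010101a000000000000000000000000000000000000000000000000000000000000004402000000000000000000000000000000000000000000000000000000000000003302000000000000000000000000000000000000000000000000000000000000002202000000000000000000000000000000000000000000000000000000000000001102000000000000000000000000000000000000000000000000000000000000000002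

/-- the packed classes of the words -/
noncomputable def rhsP : Nat := 0x100011000010000100001000010000100001000012000120011200012000120001200012000120000a8000a8000a8010a8000a8000a8000a8000a80018800188001880018801188001880018800188001580015800158001580015800158001580015800158001580015800158001580015800158001580009000090000900009000090000900009000090001100011000110001100011000110001100011000078000780007800078000780007800078000780018000180001800018000180001800018000180000c0000c0000c0000c0000c0000c0000c0000c00002000020000200002000020010200002000020000200002000020000200002000020010200002000020000200002000020000200002000020000200003000030000300003000030000300003000030000a0000a0000a0000a0000a0000a0000a0000a00003000030000300003000030000300003000030000200002000020000200002000020000200102000020000200002000020000200002000020000200002000020000200002000020000200002000020000d0000d0000d0000d0000d0000d0000d0000d00001000010000100001000010000100001000010010100001000010000100001000010000100001000010000100001000010000100001000010000100001000010000100001000010000100001000010000100001000010000100001000010000100001000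

end Cfsg.Agent.Lib.Helper8.RuM
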