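import Cfsg.Agent.Lib.Helper8.RuM.T0
import Cfsg.Agent.Lib.Helper8.RuM.T1
import Cfsg.Agent.Lib.Helper8.RuM.T2
import Cfsg.Agent.Lib.Helper8.RuM.T3
import Cfsg.Agent.Lib.Helper8.RuM.R
import Cfsg.Agent.Lib.Helper7.MGenC

/-! # The multiplier of the Rudvalis group, the table over the Tits subgroup: the certificate of the enumeration of the cosets (generated) -/

set_option autoImplicit false

namespace Cfsg.Agent.Lib.Helper8.RuM

open Cfsg.Agent.Lib.Helper7.MG Cfsg.Agent.Lib.Helper7.HSMult

/-- the part of the table that contains a row -/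
noncomputable def rowSel (a : ℕ) : ℕ := (cond (Nat.beq (Nat.land a 1) 0) (cond (Nat.beq (Nat.land a 2) 0) (cond (Nat.beq (Nat.land a 4) 0) (cond (Nat.beq (Nat.land a 8) 0) rl0 rl8) (cond (Nat.beq (Nat.land a 8) 0) rl4 rl12)) (cond (Nat.beq (Nat.land a 4) 0) (cond (Nat.beq (Nat.land a 8) 0) rl2 rl10) (cond (Nat.beq (Nat.land a 8) 0) rl6 rl14))) (cond (Nat.beq (Nat.land a 2) 0) (cond (Nat.beq (Nat.land a 4) 0) (cond (Nat.beq (Nat.land a 8) 0) rl1 rl9) (cond (Nat.beq (Nat.land a 8) 0) rl5 rl13)) (cond (Nat.beq (Nat.land a 4) 0) (cond (Nat.beq (Nat.land a 8) 0) rl3 rl11) (cond (Nat.beq (Nat.land a 8) 0) rl7 rl15))))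

/-- a row of the table -/
noncomputable def rowOf (a : ℕ) : ℕ :=
  strictN a fun a' => Nat.shiftRight (rowSel a') (Nat.mul 1308 (Nat.shiftRight a' 4))

/-- a word -/
noncomputable def wordOf (i : ℕ) : List ℕ :=
  strictN (Nat.land (Nat.shiftRight relP (Nat.mul 264 i)) 29642774844752946028434172162224104410437116074403984394101141506025761187823615) fun v =>
    unp (Nat.land v 255) (Nat.shiftRight v 8)

/-- the certificate -/
noncomputable def cert : VCert where
  n := 8120
  g := 6
  k := 8
  nW := 26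
  B := 2048
  iv := fun x => cond (Nat.blt x 4) x (Nat.sub 9 x)
  sub := fun x => Nat.blt x 4
  sl := fun a x => Nat.land (Nat.shiftRight (rowOf a) (Nat.mul 214 x)) 26328072917139296674479506920917608079723773850137277813577744383
  pr := fun a => Nat.land (Nat.shiftRight (rowOf a) 1284) 16777215
  W := wordOf
  rhs := fun i => Nat.land (Nat.shiftRight rhsP (Nat.mul 160 i)) 1461501637330902918203684832716283019655932542975
  wT := fun _ => 0
  wA := fun _ => 0

/-- the check of the rows from `lo` to `lo + k` -/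
noncomputable def rowsOK (lo k : ℕ) : Bool := allN k fun i => allN 6 fun x => cert.slotOK (Nat.add lo i) x

/-- the check of the words -/
noncomputable def wordsOK : Bool := allN 26 fun i => cert.wordOK i

end Cfsg.Agent.Lib.Helper8.RuM
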