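import Cfsg.Agent.Lib.Helper8.RuM.U
import Cfsg.Agent.Lib.Helper8.Ru2.Cover

/-!
# The Schur multiplier of the Rudvalis group is cyclic of order two

The bound for the kernels of the finite stem extensions of the presented group `P5` is carried over to the Rudvalis
group by the isomorphism between them; together with the stem extension inside the automorphism group of the lattice,
whose kernel contains minus the identity, this gives the multiplier. (helper8)
-/

set_option autoImplicit false

namespace Cfsg.Agent.Lib.Helper8.RuM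

open Cfsg Cfsg.Spor Cfsg.Agent.Lib.Helper6.RuSub

/-- **the kernel of every finite stem extension of the Rudvalis group is an image of the cyclic group of order
two** -/
theorem ru_upper (Γ : Type) [Group Γ] [Finite Γ] (σ : Γ →* Ru) (hσ : IsStemExtension σ) :
    ∃ π : Multiplicative (ZMod 2) →* σ.ker, Function.Surjective π := by
  have e : Ru ≃* P5 := Cfsg.Agent.Lib.Helper8.Ru2.ruIso
  have hk : ∀ x, x ∈ (e.toMonoidHom.comp σ).ker ↔ x ∈ σ.ker := by
    intro x
    rw [MonoidHom.mem_ker, MonoidHom.mem_ker]
    show e (σ x) = 1 ↔ σ x = 1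
    exact MulEquiv.map_eq_one_iff e
  obtain ⟨π, hπ⟩ := exists_surj_of_stem (e.toMonoidHom.comp σ) (e.surjective.comp hσ.1)
    (fun x hx => hσ.2.1 ((hk x).1 hx)) (fun x hx => hσ.2.2 ((hk x).1 hx))
  have hle : (e.toMonoidHom.comp σ).ker ≤ σ.ker := fun x hx => (hk x).1 hx
  refine ⟨(Subgroup.inclusion hle).comp π, ?_⟩
  intro y
  obtain ⟨a, ha⟩ := hπ ⟨y.1, (hk y.1).2 y.2⟩
  refine ⟨a, ?_⟩
  apply Subtype.ext
  show ((π a : ↥(e.toMonoidHom.comp σ).ker) : Γ) = y.1
  rw [ha]

/-- **the Schur multiplier of the Rudvalis group is cyclic of order two** -/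
theorem multiplier_ru : HasCyclicSchurMultiplier Ru 2 :=
  Cfsg.Agent.Lib.Helper8.Ru2.multiplier_of_upper ru_upper

end Cfsg.Agent.Lib.Helper8.RuM
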