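import Cfsg.Agent.Lib.Helper8.RuM.C

/-! # The multiplier of the Rudvalis group, the table over the Tits subgroup: the check of the rows 0 to 2029 of the certificate (generated) -/

set_option autoImplicit false
set_option maxRecDepth 100000

namespace Cfsg.Agent.Lib.Helper8.RuM

theorem rows_ok_0 : rowsOK 0 203 = true := by decide +kernel

theorem rows_ok_1 : rowsOK 203 203 = true := by decide +kernel

theorem rows_ok_2 : rowsOK 406 203 = true := by decide +kernel

theorem rows_ok_3 : rowsOK 609 203 = true := by decide +kernel

theorem rows_ok_4 : rowsOK 812 203 = true := by decide +kernel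

theorem rows_ok_5 : rowsOK 1015 203 = true := by decide +kernel

theorem rows_ok_6 : rowsOK 1218 203 = true := by decide +kernel

theorem rows_ok_7 : rowsOK 1421 203 = true := by decide +kernel

theorem rows_ok_8 : rowsOK 1624 203 = true := by decide +kernel

theorem rows_ok_9 : rowsOK 1827 203 = true := by decide +kernel

end Cfsg.Agent.Lib.Helper8.RuM
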