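import Cfsg.Agent.Lib.Helper8.RuM.Base

/-!
# The multiplier of the Rudvalis group: the kernel of every finite stem extension is an image of the cyclic group of order two

In a finite stem extension of the presented group `P5` the derived subgroup of the preimage of the Tits subgroup `L`
is a copy of `L`, since `L` is perfect and has no proper stem extensions; the first four letters are lifted into this
copy, so that all the words in these letters that are trivial in the group are trivial in the extension.  The lift of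
the fifth letter is chosen so that one more given word, in which its exponent sum is one, is trivial.  The checked table
over the copy of `L` shows that the kernel is generated by the values of the eight other given words; the traced
words give relations between them, which make the kernel cyclic of order at most two.  (helper8, with the machine of
helper7)
-/

set_option autoImplicit false
set_option maxRecDepth 100000

namespace Cfsg.Agent.Lib.Helper8.RuM

open Cfsg Cfsg.Spor Cfsg.Agent.Lib.Helper7.MG Cfsg.Agent.Lib.Helper7.HSMult Cfsg.Agent.Lib.Helper7.M12Mult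
open Cfsg.Agent.Lib.Helper6 Cfsg.Agent.Lib.Helper6.TitsSub Cfsg.Agent.Lib.Helper6.RuSub
open scoped IsMulCommutative

theorem lt_four_of_sub {x : ℕ} (hx : cert.sub x = true) : x < 4 := by
  have : Nat.blt x 4 = true := hx
  simpa [Nat.blt] using this

section upper

universe u

variable {Γ : Type u} [Group Γ] [Finite Γ] (σ : Γ →* P5) (hsurj : Function.Surjective σ)
  (hcen : σ.ker ≤ Subgroup.center Γ) (hder : σ.ker ≤ commutator Γ)

/-! ### the letters in the extension -/

/-- the letters in the extension -/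
def gU (f : ℕ → Γ) (t : Γ) (x : ℕ) : Γ :=
  if x < 4 then f x else if x = 4 then t else if x = 5 then t⁻¹ else 1

omit [Finite Γ] in
theorem gU_lt (f : ℕ → Γ) (t : Γ) {x : ℕ} (hx : x < 4) : gU f t x = f x := by
  rw [gU, if_pos hx]

omit [Finite Γ] in
theorem gU_four (f : ℕ → Γ) (t : Γ) : gU f t 4 = t := rfl

omit [Finite Γ] in
theorem gU_five (f : ℕ → Γ) (t : Γ) : gU f t 5 = t⁻¹ := rfl

omit [Finite Γ] in
theorem gU_ge (f : ℕ → Γ) (t : Γ) {x : ℕ} (hx : 6 ≤ x) : gU f t x = 1 := by
  rw [gU, if_neg (by omega), if_neg (by omega), if_neg (by omega)]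

variable (f : ℕ → Γ) (t : Γ) (hfM : ∀ x, x < 4 → f x ∈ Mt σ L) (hf : ∀ x, x < 4 → σ (f x) = lR x)
  (ht : σ t = lR 4)

include hf ht in
omit [Finite Γ] in
theorem map_gU (x : ℕ) : σ (gU f t x) = lR x := by
  rcases Nat.lt_or_ge x 4 with h | h
  · rw [gU_lt f t h, hf x h]
  · rcases Nat.lt_or_ge x 6 with h' | h'
    · have : x = 4 ∨ x = 5 := by omega
      rcases this with rfl | rfl
      · exact ht
      · rw [gU_five, map_inv, ht]
        exact (lR_iv 4 (by norm_num)).symm
    · rw [gU_ge f t h', map_one, lR_of_ge h']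

include hf ht in
omit [Finite Γ] in
theorem map_wd_gU : ∀ w : List ℕ, σ (VCert.wd (gU f t) w) = VCert.wd lR w
  | [] => map_one σ
  | x :: w => by
    rw [VCert.wd_cons, VCert.wd_cons, map_mul, map_gU σ f t hf ht x, map_wd_gU w]

include hsurj hcen hfM hf in
theorem f_sq {x : ℕ} (hx : x < 4) : f x * f x = 1 :=
  eq_one_of_mem_Mt hsurj hcen L L_perfect MF_L (Subgroup.mul_mem _ (hfM x hx) (hfM x hx))
    (by rw [map_mul, hf x hx, lR_of_lt (by omega), cg_mul_self])

include hsurj hcen hfM hf in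
theorem gU_iv : ∀ x, x < 6 → gU f t (cert.iv x) = (gU f t x)⁻¹ := by
  intro x hx
  rcases Nat.lt_or_ge x 4 with h | h
  · have e : cert.iv x = x := by
      have : x = 0 ∨ x = 1 ∨ x = 2 ∨ x = 3 := by omega
      rcases this with rfl | rfl | rfl | rfl <;> rfl
    rw [e, gU_lt f t h]
    exact eq_inv_of_mul_eq_one_left (f_sq σ hsurj hcen f hfM hf h)
  · have : x = 4 ∨ x = 5 := by omega
    rcases this with rfl | rfl
    · rfl
    · exact (inv_inv t).symm

include hsurj hcen in
omit [Finite Γ] in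
/-- **lifts of the letters: the first four in the copy of `L`, the fifth such that the given word is trivial** -/
theorem exists_lifts : ∃ (f : ℕ → Γ) (t : Γ), (∀ x, x < 4 → f x ∈ Mt σ L) ∧ (∀ x, x < 4 → σ (f x) = lR x) ∧
    σ t = lR 4 ∧ VCert.wd (gU f t) nW = 1 := by
  have hex : ∀ x : ℕ, ∃ a : Γ, x < 4 → (a ∈ Mt σ L ∧ σ a = lR x) := by
    intro x
    by_cases hx : x < 4
    · obtain ⟨a, haM, ha⟩ := exists_mem_Mt (σ := σ) hsurj L L_perfect (lR x) (lR_mem_L x hx)
      exact ⟨a, fun _ => ⟨haM, ha⟩⟩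
    · exact ⟨1, fun h => absurd h hx⟩
  choose f hf using hex
  obtain ⟨t0, ht0⟩ := hsurj (lR 4)
  have hf1 : ∀ x, x < 4 → σ (f x) = lR x := fun x hx => (hf x hx).2
  have hk2 : VCert.wd (gU f t0) nW ∈ σ.ker := by
    rw [MonoidHom.mem_ker, map_wd_gU σ f t0 hf1 ht0, ← chk_WN]
    exact wd_lR_W (by norm_num)
  set w : Γ := (VCert.wd (gU f t0) nW)⁻¹ with hwdef
  have hw : w ∈ σ.ker := Subgroup.inv_mem _ hk2
  have hwc : ∀ x : Γ, w⁻¹ * x = x * w⁻¹ := fun x =>
    (Subgroup.mem_center_iff.1 (Subgroup.inv_mem _ (hcen hw)) x).symm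
  refine ⟨f, t0 * w, fun x hx => (hf x hx).1, hf1, ?_, ?_⟩
  · rw [map_mul, MonoidHom.mem_ker.1 hw, mul_one, ht0]
  · rw [wd_central_mul_at 4 5 (by norm_num) (gU f t0) (gU f (t0 * w)) w (hcen hw) rfl (by
        show (t0 * w)⁻¹ = t0⁻¹ * w⁻¹
        rw [mul_inv_rev, hwc]) (by
        intro x h0 h1
        rcases Nat.lt_or_ge x 4 with h | h
        · rw [gU_lt _ _ h, gU_lt _ _ h]
        · rw [gU_ge _ _ (by omega), gU_ge _ _ (by omega)]), chk_nW]
    rw [zpow_one, hwdef, mul_inv_cancel]

variable (hy : VCert.wd (gU f t) nW = 1)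

include hf ht in
omit [Finite Γ] in
theorem wd_gU_mem_ker {i : ℕ} (hi : i < 26) : VCert.wd (gU f t) (cert.W i) ∈ σ.ker := by
  rw [MonoidHom.mem_ker, map_wd_gU σ f t hf ht, wd_lR_W hi]

include hfM in
omit [Finite Γ] in
theorem gU_mem_Mt : ∀ x, x < 4 → gU f t x ∈ Mt σ L := by
  intro x hx
  rw [gU_lt f t hx]
  exact hfM x hx

/-- the central elements: the values of the given words -/
noncomputable def zU (j : ℕ) : Subgroup.center Γ :=
  ⟨VCert.wd (gU f t) (cert.W (axI j)), hcen (wd_gU_mem_ker σ f t hf ht (axI_lt j))⟩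

include hsurj hcen hfM hf ht hy in
theorem hW0_U : ∀ i, i < cert.nW → cert.wT i = 0 →
    VCert.wd (gU f t) (cert.W i) = (cert.ek (zU σ hcen f t hf ht) i : Γ) := by
  intro i hi hT
  rcases chk_wT i hi hT with ⟨h4, h0⟩ | rfl | ⟨j, hj, rfl⟩
  · rw [VCert.ek, cert.kap_one _ h0]
    have hl : ∀ x ∈ (cert.W i).map (gU f t), x ∈ Mt σ L := by
      intro x hx
      obtain ⟨y, hy', rfl⟩ := List.mem_map.1 hx
      exact gU_mem_Mt σ f t hfM y (by simpa [Nat.blt] using List.all_eq_true.1 h4 y hy')
    have h1 : (((cert.W i).map (gU f t)).map σ).prod = 1 := by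
      rw [← map_list_prod]
      have := map_wd_gU σ f t hf ht (cert.W i)
      rw [VCert.wd] at this
      rw [this]
      exact wd_lR_W hi
    exact prod_eq_one_of_Mt hsurj hcen L L_perfect MF_L _ hl h1
  · rw [VCert.ek, cert.kap_one _ chk_ex, chk_WN]
    exact hy
  · rw [VCert.ek, cert.kap_unit _ hj (chk_ax j hj)]
    rfl

include hsurj hcen hder hfM hf ht in
theorem hgen_U : ∀ y : Γ, ∃ u : List ℕ, (∀ x ∈ u, x < cert.g) ∧ y = (u.map (gU f t)).prod := by
  apply Cfsg.Agent.Lib.Helper7.MG.exists_word_of_closure (gU f t) 6 cert.iv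
  · intro x hx
    refine ⟨?_, gU_iv σ hsurj hcen f t hfM hf x hx⟩
    have : x = 0 ∨ x = 1 ∨ x = 2 ∨ x = 3 ∨ x = 4 ∨ x = 5 := by omega
    rcases this with rfl | rfl | rfl | rfl | rfl | rfl <;> decide
  · apply Cfsg.Agent.Lib.Helper7.M12Mult.closure_eq_top_of_stem (σ := σ) hcen hder
    intro g
    have hg : g ∈ Subgroup.closure (lR '' Set.Iio 6) := by rw [closure_lR]; exact Subgroup.mem_top g
    induction hg using Subgroup.closure_induction with
    | mem y hy =>
      obtain ⟨x, hx, rfl⟩ := hy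
      exact ⟨gU f t x, Subgroup.subset_closure ⟨x, hx, rfl⟩, map_gU σ f t hf ht x⟩
    | one => exact ⟨1, one_mem _, map_one σ⟩
    | mul p q _ _ ihp ihq =>
      obtain ⟨p', hp', rfl⟩ := ihp
      obtain ⟨q', hq', rfl⟩ := ihq
      exact ⟨p' * q', mul_mem hp' hq', map_mul σ p' q'⟩
    | inv p _ ihp =>
      obtain ⟨p', hp', rfl⟩ := ihp
      exact ⟨p'⁻¹, inv_mem hp', map_inv σ p'⟩

include hsurj hcen in
theorem hHK_U : ∀ u, u ∈ Mt σ L → u ∈ σ.ker → u = 1 := fun _ hu hk =>
  eq_one_of_mem_Mt hsurj hcen L L_perfect MF_L hu (MonoidHom.mem_ker.1 hk)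

include hfM in
omit [Finite Γ] in
theorem hsub_U : ∀ x, cert.sub x = true → gU f t x ∈ Mt σ L := fun x hx =>
  gU_mem_Mt σ f t hfM x (lt_four_of_sub hx)

include hsurj hder hfM hy in
/-- **the kernel is generated by the central elements** -/
theorem ker_eq_Zc_U : σ.ker = Zc (zU σ hcen f t hf ht) 8 := by
  refine ker_eq_Zc_of_sub σ cert (gU f t) (zU σ hcen f t hf ht) (Mt σ L) 17971200 hsurj
    (by rw [card_P5]; rfl) (by decide) (by norm_num) (hHK_U σ hsurj hcen) ?_
    (hsub_U σ f t hfM) ?_ (hgen_U σ hsurj hcen hder f t hfM hf ht) (by decide) (by decide)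
    (gU_iv σ hsurj hcen f t hfM hf) ?_
    (hW0_U σ hsurj hcen f t hfM hf ht hy) cert_all cert_wall
  · rw [← card_L]
    exact card_Mt_le hsurj hcen L L_perfect MF_L
  · intro j _
    exact wd_gU_mem_ker σ f t hf ht (axI_lt j)
  · intro i hi
    exact wd_gU_mem_ker σ f t hf ht hi

include hsurj hfM hy in
/-- the relations between the central elements -/
theorem rel_U : ∀ r ∈ relL, zprod (zU σ hcen f t hf ht) 8 (fun l => r.getD l 0) = 1 := by
  have hKn : ∀ u, u ∈ σ.ker → ∀ g : Γ, g * u * g⁻¹ ∈ σ.ker := fun u hu g =>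
    (inferInstance : σ.ker.Normal).conj_mem u hu g
  have key : ∀ {i v row : ℕ}, i < 26 → cert.scan 4095 (cert.W i) row 0 = some (row, v) →
      cert.ek (zU σ hcen f t hf ht) i = cert.kap (zU σ hcen f t hf ht) v (cert.W i).length := by
    intro i v row hi h
    exact cert.close_spec (γ := gU f t) (H := Mt σ L) σ.ker hKn
      (fun j _ => wd_gU_mem_ker σ f t hf ht (axI_lt j)) (hHK_U σ hsurj hcen) (by decide) (by decide)
      (gU_iv σ hsurj hcen f t hfM hf) (hsub_U σ f t hfM)
      (fun i hi => wd_gU_mem_ker σ f t hf ht hi) (hW0_U σ hsurj hcen f t hfM hf ht hy)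
      cert_all cert_wall hi (chk_len i hi) h
  intro r hr
  simp only [relL, List.mem_cons, List.not_mem_nil, or_false] at hr
  rcases hr with rfl | rfl | rfl | rfl | rfl | rfl | rfl | rfl | rfl
  · exact cert.rel_of_close _ (key (by norm_num) close_0) _ chk_rel_0
  · exact cert.rel_of_close _ (key (by norm_num) close_1) _ chk_rel_1
  · exact cert.rel_of_close _ (key (by norm_num) close_2) _ chk_rel_2
  · exact cert.rel_of_close _ (key (by norm_num) close_3) _ chk_rel_3
  · exact cert.rel_of_close _ (key (by norm_num) close_4) _ chk_rel_4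
  · exact cert.rel_of_close _ (key (by norm_num) close_5) _ chk_rel_5
  · exact cert.rel_of_close _ (key (by norm_num) close_6) _ chk_rel_6
  · exact cert.rel_of_close _ (key (by norm_num) close_7) _ chk_rel_7
  · exact cert.rel_of_close _ (key (by norm_num) close_8) _ chk_rel_8

include hsurj hcen hder hfM hf ht hy in
/-- **the kernel is an image of the cyclic group of order two** -/
theorem exists_surj_U : ∃ π : Multiplicative (ZMod 2) →* ↥σ.ker, Function.Surjective π := by
  have hK := ker_eq_Zc_U σ hsurj hcen hder f t hfM hf ht hy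
  obtain ⟨hz, hN⟩ := cyclic_of_relations (zU σ hcen f t hf ht) 8 relL
    (rel_U σ hsurj hcen f t hfM hf ht hy) cL mL 2 lamL muL chk_lam chk_mu
  set g := zprod (zU σ hcen f t hf ht) 8 (fun l => cL.getD l 0) with hg
  have hle : σ.ker ≤ Subgroup.zpowers (g : Γ) := by
    rw [hK]
    exact Zc_le_zpowers _ 8 g (fun j => mL.getD j 0) hz
  have hgK : (g : Γ) ∈ σ.ker := by
    have : g ∈ σ.ker.comap (Subgroup.center Γ).subtype :=
      zprod_mem _ 8 _ (fun j _ => wd_gU_mem_ker σ f t hf ht (axI_lt j)) _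
    exact this
  set g' : ↥σ.ker := ⟨(g : Γ), hgK⟩ with hg'
  have h6 : g' ^ 2 = 1 := by
    apply Subtype.ext
    rw [Subgroup.coe_pow, Subgroup.coe_one]
    have := congrArg (fun t : Subgroup.center Γ => (t : Γ)) hN
    simpa using this
  apply exists_surj_zmod g' 2 h6
  intro y
  obtain ⟨i, hi⟩ := Subgroup.mem_zpowers_iff.1 (hle y.2)
  refine Subgroup.mem_zpowers_iff.2 ⟨i, ?_⟩
  apply Subtype.ext
  rw [Subgroup.coe_zpow]
  exact hi

end upper

/-- **the kernel of every finite stem extension of the presented group is an image of the cyclic group of order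
two** -/
theorem exists_surj_of_stem {Γ : Type*} [Group Γ] [Finite Γ] (σ : Γ →* P5) (hsurj : Function.Surjective σ)
    (hcen : σ.ker ≤ Subgroup.center Γ) (hder : σ.ker ≤ commutator Γ) :
    ∃ π : Multiplicative (ZMod 2) →* ↥σ.ker, Function.Surjective π := by
  obtain ⟨f, t, hfM, hf, ht, hy⟩ := exists_lifts σ hsurj hcen
  exact exists_surj_U σ hsurj hcen hder f t hfM hf ht hy

end Cfsg.Agent.Lib.Helper8.RuM
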